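import Mathlib
import Cfsg.Agent.Lib.Helper2.KS12.PZ
import Cfsg.Agent.Lib.Helper11.FFJ
import Cfsg.Agent.Lib.Helper79.SolvPSolv

/-!
Kurzweil–Stellmacher chapter 12 cluster, package P-Z (helper2), part 2: the equality case of Z4.
For `L ∈ jOvergroups T` (only `T` Sylow in `L`, `C_G(O₂(L)) ≤ O₂(L)`, `T ≠ 1` are used), with
`V = VL L = Ω₁(Z(O₂(L)))`:

* `inf_sup_VL_mem_max`: for `A ∈ 𝒜(T)`, `C_A(V) V ∈ 𝒜(T)`;
* `VL_le_thompson`: `V ≤ J(T)`;
* `CL_le_normalizer_thompson`: `C_L(V) ≤ N_G(J(T))`;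
* `VL_offender_eq`: `|V| |C_A(V)| = |A| |C_V(A)|` for `A ∈ 𝒜(T)`.

The input is the failure-of-factorization theorem of the library of helper11
(`FFT.inf_sup_mem_max`), applied in the group `↥L` acting on its normal subgroup `V`.
-/

set_option autoImplicit false

namespace Cfsg.Agent.Lib.Helper2.KS12

open Cfsg

variable {G : Type*} [Group G] [Finite G]

/-- Z4 (equality case): for `A ∈ 𝒜(T)`, `C_A(V_L) V_L ∈ 𝒜(T)`. -/
theorem inf_sup_VL_mem_max
    (hN : ∀ N : Subgroup G, Cfsg.IsTwoLocal N → Group.IsSolvable ↥N)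
    (hZ : ∀ S : Sylow 2 G, Subgroup.centralizer (Cfsg.omegaCenterOf (S : Subgroup G) : Set G) ≤
      Subgroup.normalizer ((S : Subgroup G) : Set G))
    {T L : Subgroup G} (hT1 : T ≠ ⊥) (hT : IsSylowTwoIn T L)
    (hCQ : Subgroup.centralizer (pCoreOf 2 L : Set G) ≤ pCoreOf 2 L)
    {A : Subgroup G} (hA : A ∈ Cfsg.Agent.Lib.Helper11.maxElemAbIn 2 T) :
    (A ⊓ Subgroup.centralizer (VL L : Set G)) ⊔ VL L ∈ Cfsg.Agent.Lib.Helper11.maxElemAbIn 2 T := by
  haveI : Fact (Nat.Prime 2) := ⟨Nat.prime_two⟩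
  have hsolv : Group.IsSolvable ↥L := isSolvable_of_mem_jOvergroups hN hT1 hCQ
  have hpsol : Cfsg.IsPSolvable 2 ↥L := Cfsg.Agent.Lib.Helper79.isPSolvable_of_isSolvable 2 hsolv
  have hV' : IsElementaryAbelian 2 ((VL L).subgroupOf L) := by
    apply Cfsg.Agent.Lib.Helper11.elemAb_of_map L.subtype L.subtype_injective
    rw [Subgroup.map_subgroupOf_eq_of_le (VL_le L)]
    exact VL_elemAb L
  have hOp := Cfsg.Agent.Lib.Helper11.FFT.pCore_range_eq_bot ((VL L).subgroupOf L)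
    (pCore_quotient_centralizer_VL_eq_bot hZ hT hCQ)
  obtain ⟨hAT, hAe, hAmax⟩ := hA
  have hAL : A ≤ L := hAT.trans hT.1
  have hA'e : IsElementaryAbelian 2 (A.subgroupOf L) := by
    apply Cfsg.Agent.Lib.Helper11.elemAb_of_map L.subtype L.subtype_injective
    rw [Subgroup.map_subgroupOf_eq_of_le hAL]
    exact hAe
  have hcardA : Nat.card (A.subgroupOf L) = Nat.card A :=
    Nat.card_congr (Subgroup.subgroupOfEquivOfLe hAL).toEquiv
  -- the Sylow 2-subgroup `T` of `L`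
  have hT2' : IsPGroup 2 (T.subgroupOf L) :=
    hT.2.1.comap_of_injective L.subtype L.subtype_injective
  have hidx : ¬ 2 ∣ (T.subgroupOf L).index := by
    have h1 : (T.subgroupOf L).index = T.relIndex L := rfl
    rw [h1]
    exact fun h => (Nat.not_even_iff_odd.mpr hT.2.2) (even_iff_two_dvd.mpr h)
  let T' : Sylow 2 ↥L := hT2'.toSylow hidx
  have hA'max : A.subgroupOf L ∈ Cfsg.maxElementaryAbelianSubgroups 2 ↥L := by
    rw [← Cfsg.Agent.Lib.Helper11.maxElemAbIn_top]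
    apply Cfsg.Agent.Lib.Helper11.maxElemAbIn_sylow_subset T'
    refine ⟨?_, hA'e, ?_⟩
    · intro a ha
      exact Subgroup.mem_subgroupOf.mpr (hAT (Subgroup.mem_subgroupOf.mp ha))
    · intro B' hB'T hB'e
      have hle : B'.map L.subtype ≤ T := by
        rintro _ ⟨b, hb, rfl⟩
        exact Subgroup.mem_subgroupOf.mp (hB'T hb)
      have h1 := hAmax (B'.map L.subtype) hle (Cfsg.Agent.Lib.Helper11.elemAb_map _ hB'e)
      rw [Subgroup.card_map_of_injective L.subtype_injective] at h1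
      rw [hcardA]
      exact h1
  have hmem := Cfsg.Agent.Lib.Helper11.FFT.inf_sup_mem_max ((VL L).subgroupOf L) hV' hpsol hOp
    hA'max
  obtain ⟨hBT, hBe⟩ := inf_sup_VL_elemAb (L := L) hT hAT hAe
  refine ⟨hBT, hBe, ?_⟩
  intro B0 hB0T hB0e
  have h1 := hAmax B0 hB0T hB0e
  have h2 := hmem.2 (A.subgroupOf L) hA'e
  have h3 : ((A.subgroupOf L ⊓
      Subgroup.centralizer (((VL L).subgroupOf L : Subgroup ↥L) : Set ↥L)) ⊔
        (VL L).subgroupOf L).map L.subtype ≤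
      (A ⊓ Subgroup.centralizer (VL L : Set G)) ⊔ VL L := by
    rw [Subgroup.map_sup]
    apply sup_le_sup
    · rintro _ ⟨a, ha, rfl⟩
      exact Subgroup.mem_inf.mpr ⟨Subgroup.mem_subgroupOf.mp ha.1,
        ((mem_centralizer_VL_subgroupOf a).mp ha.2).2⟩
    · rintro _ ⟨v, hv, rfl⟩
      exact Subgroup.mem_subgroupOf.mp hv
  have h4 := Subgroup.card_le_of_le h3
  rw [Subgroup.card_map_of_injective L.subtype_injective] at h4
  omega

/-- Z4: `V_L ≤ J(T)`. -/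
theorem VL_le_thompson
    (hN : ∀ N : Subgroup G, Cfsg.IsTwoLocal N → Group.IsSolvable ↥N)
    (hZ : ∀ S : Sylow 2 G, Subgroup.centralizer (Cfsg.omegaCenterOf (S : Subgroup G) : Set G) ≤
      Subgroup.normalizer ((S : Subgroup G) : Set G))
    {T L : Subgroup G} (hT1 : T ≠ ⊥) (hT : IsSylowTwoIn T L)
    (hCQ : Subgroup.centralizer (pCoreOf 2 L : Set G) ≤ pCoreOf 2 L) :
    VL L ≤ thompsonSubgroupOf 2 T := by
  obtain ⟨A, hA⟩ := Cfsg.Agent.Lib.Helper11.maxElemAbIn_nonempty 2 T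
  exact le_sup_right.trans
    (Cfsg.Agent.Lib.Helper11.le_thompsonSubgroupOf (inf_sup_VL_mem_max hN hZ hT1 hT hCQ hA))

/-- Z2: `C_L(V_L)` normalizes `J(T)`. -/
theorem CL_le_normalizer_thompson
    (hZ : ∀ S : Sylow 2 G, Subgroup.centralizer (Cfsg.omegaCenterOf (S : Subgroup G) : Set G) ≤
      Subgroup.normalizer ((S : Subgroup G) : Set G))
    {T L : Subgroup G} (hT : IsSylowTwoIn T L)
    (hCQ : Subgroup.centralizer (pCoreOf 2 L : Set G) ≤ pCoreOf 2 L) :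
    CL L ≤ Subgroup.normalizer (thompsonSubgroupOf 2 T : Set G) :=
  (CL_le_normalizer hZ hT hCQ).trans
    (Cfsg.Agent.Lib.Helper11.normalizer_le_normalizer_thompsonSubgroupOf 2 T)

end Cfsg.Agent.Lib.Helper2.KS12
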